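import Mathlib
import Cfsg.Prelude.Def_LocalEven
import Cfsg.Agent.Lib.Helper4.Basic

set_option autoImplicit false
open scoped commutatorElement

namespace Cfsg.Agent.Lib.Helper4

open Cfsg

theorem le_of_pCore_quot_bot {L : Type*} [Group L] {p : ℕ} (N : Subgroup L) [N.Normal]
    (h : Cfsg.pCore p (L ⧸ N) = ⊥) (D : Subgroup L) (hD : D.Normal)
    (hDp : ∀ d ∈ D, ∃ k : ℕ, d ^ (p ^ k) ∈ N) : D ≤ N := by
  have h1 : (D.map (QuotientGroup.mk' N)).Normal := hD.map _ (QuotientGroup.mk'_surjective N)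
  have h2 : IsPGroup p ↥(D.map (QuotientGroup.mk' N)) := by
    rintro ⟨x, d, hd, rfl⟩
    obtain ⟨k, hk⟩ := hDp d hd
    refine ⟨k, ?_⟩
    apply Subtype.ext
    show (QuotientGroup.mk' N d) ^ (p ^ k) = 1
    rw [← map_pow]
    exact (QuotientGroup.eq_one_iff _).mpr hk
  have h3 := le_pCore h1 h2
  rw [h] at h3
  intro d hd
  have h4 : QuotientGroup.mk' N d ∈ (⊥ : Subgroup (L ⧸ N)) := h3 ⟨d, hd, rfl⟩
  rw [Subgroup.mem_bot] at h4
  exact (QuotientGroup.eq_one_iff _).mp h4

theorem pCore_quot_bot_of_le {L : Type*} [Group L] [Finite L] {p : ℕ} (N : Subgroup L) [N.Normal]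
    (h : ∀ D : Subgroup L, D.Normal → (∀ d ∈ D, ∃ k : ℕ, d ^ (p ^ k) ∈ N) → D ≤ N) :
    Cfsg.pCore p (L ⧸ N) = ⊥ := by
  have hn : (Cfsg.pCore p (L ⧸ N)).Normal := pCore_normal p _
  have hpg : IsPGroup p ↥(Cfsg.pCore p (L ⧸ N)) := pCore_isPGroup p _
  have h1 := h ((Cfsg.pCore p (L ⧸ N)).comap (QuotientGroup.mk' N)) (hn.comap _) (by
    intro d hd
    rw [Subgroup.mem_comap] at hd
    obtain ⟨k, hk⟩ := hpg ⟨_, hd⟩
    refine ⟨k, ?_⟩
    have hk' : (QuotientGroup.mk' N d) ^ (p ^ k) = 1 := congrArg Subtype.val hk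
    rw [← map_pow] at hk'
    exact (QuotientGroup.eq_one_iff _).mp hk')
  rw [eq_bot_iff]
  intro x hx
  obtain ⟨g, rfl⟩ := QuotientGroup.mk'_surjective N x
  rw [Subgroup.mem_bot]
  exact (QuotientGroup.eq_one_iff _).mpr (h1 hx)

theorem isPReducedNormal_bot {L : Type*} [Group L] [Finite L] (p : ℕ) :
    Cfsg.IsPReducedNormal p (⊥ : Subgroup L) := by
  refine ⟨inferInstance, ⟨?_, ?_⟩, ?_⟩
  · constructor
    constructor
    intro a b
    apply Subtype.ext
    have ha := Subgroup.mem_bot.mp a.2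
    have hb := Subgroup.mem_bot.mp b.2
    simp [ha, hb]
  · intro a ha
    rw [Subgroup.mem_bot.mp ha, one_pow]
  · have hn : (Subgroup.centralizer (((⊥ : Subgroup L) : Subgroup L) : Set L)).Normal :=
      Subgroup.normal_centralizer
    refine ⟨hn, ?_⟩
    apply pCore_quot_bot_of_le
    intro D _ _ d _
    rw [Subgroup.mem_centralizer_iff]
    intro x hx
    have : x = 1 := Subgroup.mem_bot.mp hx
    rw [this]; group

theorem pCore_le_centralizer_of_pReduced {L : Type*} [Group L] [Finite L] {p : ℕ}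
    (W : Subgroup L) (hW : Cfsg.IsPReducedNormal p W) :
    Cfsg.pCore p L ≤ Subgroup.centralizer (W : Set L) := by
  obtain ⟨_, _, hn, hb⟩ := hW
  apply le_of_pCore_quot_bot _ hb _ (pCore_normal p L)
  intro d hd
  obtain ⟨k, hk⟩ := (pCore_isPGroup p L) ⟨d, hd⟩
  refine ⟨k, ?_⟩
  have hk' : d ^ (p ^ k) = 1 := congrArg Subtype.val hk
  rw [hk']
  exact Subgroup.one_mem _

theorem le_pCore_of_pReduced {L : Type*} [Group L] {p : ℕ}
    (V : Subgroup L) (hV : Cfsg.IsPReducedNormal p V) : V ≤ Cfsg.pCore p L := by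
  obtain ⟨hn, ⟨_, hexp⟩, _⟩ := hV
  apply le_pCore hn
  intro x
  refine ⟨1, ?_⟩
  apply Subtype.ext
  have := hexp x x.2
  simpa using this

theorem isPReducedNormal_sup {L : Type*} [Group L] [Finite L] {p : ℕ}
    (V W : Subgroup L) (hV : Cfsg.IsPReducedNormal p V) (hW : Cfsg.IsPReducedNormal p W) :
    Cfsg.IsPReducedNormal p (V ⊔ W) := by
  have hVW : V ≤ Subgroup.centralizer (W : Set L) :=
    (le_pCore_of_pReduced V hV).trans (pCore_le_centralizer_of_pReduced W hW)
  obtain ⟨hVn, ⟨hVc, hVe⟩, hVcn, hVb⟩ := hV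
  obtain ⟨hWn, ⟨hWc, hWe⟩, hWcn, hWb⟩ := hW
  have hVV : ∀ a ∈ V, ∀ b ∈ V, a * b = b * a := by
    intro a ha b hb
    have := hVc.is_comm.comm ⟨a, ha⟩ ⟨b, hb⟩
    exact congrArg Subtype.val this
  have hWW : ∀ a ∈ W, ∀ b ∈ W, a * b = b * a := by
    intro a ha b hb
    have := hWc.is_comm.comm ⟨a, ha⟩ ⟨b, hb⟩
    exact congrArg Subtype.val this
  have hVWc : ∀ a ∈ V, ∀ b ∈ W, a * b = b * a := by
    intro a ha b hb
    have := hVW ha
    rw [Subgroup.mem_centralizer_iff] at this
    exact (this b hb).symm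
  have hgen : ∀ a, (a ∈ V ∨ a ∈ W) → V ⊔ W ≤ Subgroup.centralizer ({a} : Set L) := by
    intro a ha
    apply sup_le
    · intro b hb
      rw [Subgroup.mem_centralizer_iff]
      intro x hx
      rw [Set.mem_singleton_iff] at hx
      subst hx
      rcases ha with ha | ha
      · exact hVV x ha b hb
      · exact (hVWc b hb x ha).symm
    · intro b hb
      rw [Subgroup.mem_centralizer_iff]
      intro x hx
      rw [Set.mem_singleton_iff] at hx
      subst hx
      rcases ha with ha | ha
      · exact hVWc x ha b hb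
      · exact hWW x ha b hb
  have hcomm : ∀ a ∈ V ⊔ W, ∀ b ∈ V ⊔ W, a * b = b * a := by
    intro a ha b hb
    have h1 : V ⊔ W ≤ Subgroup.centralizer ({b} : Set L) := by
      apply sup_le
      · intro v hv
        have := hgen v (Or.inl hv) hb
        rw [Subgroup.mem_centralizer_iff] at this ⊢
        intro x hx
        rw [Set.mem_singleton_iff] at hx
        subst hx
        exact (this v rfl).symm
      · intro w hw
        have := hgen w (Or.inr hw) hb
        rw [Subgroup.mem_centralizer_iff] at this ⊢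
        intro x hx
        rw [Set.mem_singleton_iff] at hx
        subst hx
        exact (this w rfl).symm
    have := h1 ha
    rw [Subgroup.mem_centralizer_iff] at this
    exact (this b rfl).symm
  have hsupn : (V ⊔ W).Normal := inferInstance
  refine ⟨hsupn, ⟨?_, ?_⟩, ?_⟩
  · constructor
    constructor
    intro a b
    apply Subtype.ext
    exact hcomm a a.2 b b.2
  · intro a ha
    rw [Subgroup.mem_sup_of_normal_right] at ha
    obtain ⟨v, hv, w, hw, rfl⟩ := ha
    have hc : Commute v w := hVWc v hv w hw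
    rw [hc.mul_pow, hVe v hv, hWe w hw, one_mul]
  · have hn : (Subgroup.centralizer (((V ⊔ W : Subgroup L) : Subgroup L) : Set L)).Normal :=
      Subgroup.normal_centralizer
    refine ⟨hn, ?_⟩
    apply pCore_quot_bot_of_le
    intro D hD hDp
    have hCV : Subgroup.centralizer (((V ⊔ W : Subgroup L) : Subgroup L) : Set L) ≤
        Subgroup.centralizer (V : Set L) :=
      Subgroup.centralizer_le (show (V : Set L) ⊆ ((V ⊔ W : Subgroup L) : Set L) from
        (le_sup_left : V ≤ V ⊔ W))
    have hCW : Subgroup.centralizer (((V ⊔ W : Subgroup L) : Subgroup L) : Set L) ≤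
        Subgroup.centralizer (W : Set L) :=
      Subgroup.centralizer_le (show (W : Set L) ⊆ ((V ⊔ W : Subgroup L) : Set L) from
        (le_sup_right : W ≤ V ⊔ W))
    have h1 : D ≤ Subgroup.centralizer (V : Set L) :=
      le_of_pCore_quot_bot _ hVb D hD (fun d hd => by
        obtain ⟨k, hk⟩ := hDp d hd
        exact ⟨k, hCV hk⟩)
    have h2 : D ≤ Subgroup.centralizer (W : Set L) :=
      le_of_pCore_quot_bot _ hWb D hD (fun d hd => by
        obtain ⟨k, hk⟩ := hDp d hd
        exact ⟨k, hCW hk⟩)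
    intro d hd
    have hd1 := h1 hd
    have hd2 := h2 hd
    rw [Subgroup.mem_centralizer_iff] at hd1 hd2 ⊢
    have h3 : V ⊔ W ≤ Subgroup.centralizer ({d} : Set L) := by
      apply sup_le
      · intro v hv
        rw [Subgroup.mem_centralizer_iff]
        intro x hx
        rw [Set.mem_singleton_iff] at hx
        subst hx
        exact (hd1 v hv).symm
      · intro w hw
        rw [Subgroup.mem_centralizer_iff]
        intro x hx
        rw [Set.mem_singleton_iff] at hx
        subst hx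
        exact (hd2 w hw).symm
    intro x hx
    have := h3 hx
    rw [Subgroup.mem_centralizer_iff] at this
    exact (this d rfl).symm

theorem isPReducedNormal_sSup {L : Type*} [Group L] [Finite L] {p : ℕ}
    (S : Set (Subgroup L)) (h : ∀ V ∈ S, Cfsg.IsPReducedNormal p V) :
    Cfsg.IsPReducedNormal p (sSup S) := by
  have hfin : S.Finite := Set.toFinite S
  induction S, hfin using Set.Finite.induction_on with
  | empty =>
    rw [sSup_empty]
    exact isPReducedNormal_bot p
  | @insert a s _ _ ih =>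
    rw [sSup_insert]
    exact isPReducedNormal_sup _ _ (h a (Set.mem_insert a s))
      (ih (fun V hV => h V (Set.mem_insert_of_mem a hV)))

theorem largestPReduced_isPReducedNormal {L : Type*} [Group L] [Finite L] (p : ℕ) :
    Cfsg.IsPReducedNormal p (sSup {V : Subgroup L | Cfsg.IsPReducedNormal p V}) :=
  isPReducedNormal_sSup _ (fun _ hV => hV)

end Cfsg.Agent.Lib.Helper4
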