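import Mathlib
import Cfsg.Agent.Lib.Helper8.Syl

set_option autoImplicit false
open scoped commutatorElement

namespace Cfsg.Agent.Lib.Helper4

variable {H : Type*} [Group H]

theorem averaging [Finite H] (L T V : Subgroup H)
    (hLV : L ≤ Subgroup.normalizer (V : Set H)) (hV : ∀ a ∈ V, ∀ b ∈ V, a * b = b * a)
    (z : H) (hz : z ∈ V) (hzT : ∀ t ∈ T, t * z * t⁻¹ = z) :
    ∃ u ∈ V, (∀ l ∈ L, l * u * l⁻¹ = u) ∧
      ∀ W : Subgroup H, (∀ l ∈ L, l * z * l⁻¹ * z⁻¹ ∈ W) → u * (z ^ (T.relIndex L))⁻¹ ∈ W := by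
  classical
  letI cg : CommGroup ↥V :=
    { (inferInstance : Group ↥V) with mul_comm := fun a b => Subtype.ext (hV a a.2 b b.2) }
  haveI : Fintype (↥L ⧸ T.subgroupOf L) := Fintype.ofFinite _
  have hmem : ∀ l : ↥L, ∀ v : ↥V, (l : H) * (v : H) * (l : H)⁻¹ ∈ V := fun l v =>
    (Subgroup.mem_normalizer_iff.mp (hLV l.2) v).mp v.2
  let cjV : ↥L → ↥V := fun l => ⟨(l : H) * z * (l : H)⁻¹, hmem l ⟨z, hz⟩⟩
  have hwd : ∀ a b : ↥L, (QuotientGroup.leftRel (T.subgroupOf L)) a b → cjV a = cjV b := by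
    intro a b hab
    rw [QuotientGroup.leftRel_apply, Subgroup.mem_subgroupOf] at hab
    apply Subtype.ext
    show (a : H) * z * (a : H)⁻¹ = (b : H) * z * (b : H)⁻¹
    have h1 := hzT _ hab
    have h2 : (((a⁻¹ * b : ↥L) : H)) = (a : H)⁻¹ * (b : H) := by simp
    rw [h2] at h1
    have e : (b : H) * z * (b : H)⁻¹ = (a : H) * ((a : H)⁻¹ * (b : H) * z * ((a : H)⁻¹ * (b : H))⁻¹) * (a : H)⁻¹ := by group
    rw [e, h1]
  let F : ↥L ⧸ T.subgroupOf L → ↥V := fun q => Quotient.liftOn' q cjV hwd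
  have hF : ∀ a : ↥L, F (a : ↥L ⧸ T.subgroupOf L) = cjV a := fun a => rfl
  have hu1 : ∀ l : ↥L, (l : H) * ((∏ q : ↥L ⧸ T.subgroupOf L, F q : ↥V) : H) * (l : H)⁻¹ = ((∏ q : ↥L ⧸ T.subgroupOf L, F q : ↥V) : H) := by
    intro l
    let cV : ↥V →* ↥V :=
      { toFun := fun v => ⟨(l : H) * (v : H) * (l : H)⁻¹, hmem l v⟩
        map_one' := by apply Subtype.ext; simp
        map_mul' := by
          intro a b
          apply Subtype.ext
          show (l : H) * ((a : H) * (b : H)) * (l : H)⁻¹ = ((l : H) * (a : H) * (l : H)⁻¹) * ((l : H) * (b : H) * (l : H)⁻¹)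
          group }
    have h1 : cV (∏ q : ↥L ⧸ T.subgroupOf L, F q) = ∏ q : ↥L ⧸ T.subgroupOf L, cV (F q) := map_prod cV F Finset.univ
    have h2 : ∀ q : ↥L ⧸ T.subgroupOf L, cV (F q) = F (l • q) := by
      intro q
      induction q using QuotientGroup.induction_on with
      | H a =>
        have e1 : l • (a : ↥L ⧸ T.subgroupOf L) = ((l * a : ↥L) : ↥L ⧸ T.subgroupOf L) := rfl
        rw [e1, hF, hF]
        apply Subtype.ext
        show (l : H) * ((a : H) * z * (a : H)⁻¹) * (l : H)⁻¹ = ((l * a : ↥L) : H) * z * ((l * a : ↥L) : H)⁻¹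
        have e2 : ((l * a : ↥L) : H) = (l : H) * (a : H) := rfl
        rw [e2]
        group
    have h3 : ∏ q : ↥L ⧸ T.subgroupOf L, cV (F q) = ∏ q : ↥L ⧸ T.subgroupOf L, F q := by
      rw [Finset.prod_congr rfl (fun q _ => h2 q)]
      exact Fintype.prod_equiv (MulAction.toPerm l) (fun q => F (l • q)) F (fun q => rfl)
    have h4 : cV (∏ q : ↥L ⧸ T.subgroupOf L, F q) = ∏ q : ↥L ⧸ T.subgroupOf L, F q := h1.trans h3
    exact congrArg Subtype.val h4
  refine ⟨((∏ q : ↥L ⧸ T.subgroupOf L, F q : ↥V) : H), (∏ q : ↥L ⧸ T.subgroupOf L, F q : ↥V).2, ?_, ?_⟩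
  · intro l hl
    exact hu1 ⟨l, hl⟩
  · intro W hW
    have h1 : (∏ q : ↥L ⧸ T.subgroupOf L, F q) / (⟨z, hz⟩ : ↥V) ^ (T.relIndex L) =
        ∏ q : ↥L ⧸ T.subgroupOf L, (F q / (⟨z, hz⟩ : ↥V)) := by
      rw [Finset.prod_div_distrib, Finset.prod_const, Finset.card_univ]
      congr 2
      rw [Subgroup.relIndex, Subgroup.index_eq_card, Nat.card_eq_fintype_card]
    have h2 : ∏ q : ↥L ⧸ T.subgroupOf L, (F q / (⟨z, hz⟩ : ↥V)) ∈ W.subgroupOf V := by
      apply Subgroup.prod_mem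
      intro q _
      induction q using QuotientGroup.induction_on with
      | H a =>
        rw [hF, Subgroup.mem_subgroupOf]
        show (a : H) * z * (a : H)⁻¹ / z ∈ W
        rw [div_eq_mul_inv]
        exact hW a a.2
    rw [← h1, Subgroup.mem_subgroupOf] at h2
    have h3 : (((∏ q : ↥L ⧸ T.subgroupOf L, F q) / (⟨z, hz⟩ : ↥V) ^ (T.relIndex L) : ↥V) : H) =
        ((∏ q : ↥L ⧸ T.subgroupOf L, F q : ↥V) : H) * (z ^ (T.relIndex L))⁻¹ := by
      rw [div_eq_mul_inv]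
      rfl
    rw [h3] at h2
    exact h2

theorem mem_of_pow_coprime {K : Subgroup H} {x : H} {p n : ℕ} (hp : p.Prime) (hx : x ^ p = 1)
    (hn : n.Coprime p) (h : x ^ n ∈ K) : x ∈ K := by
  have h1 : orderOf x ∣ p := orderOf_dvd_of_pow_eq_one hx
  have h2 : n.Coprime (orderOf x) := Nat.Coprime.coprime_dvd_right h1 hn
  obtain ⟨m, hm⟩ := exists_pow_eq_self_of_coprime h2
  rw [← hm]
  exact K.pow_mem h m

end Cfsg.Agent.Lib.Helper4
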