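import Mathlib
import Cfsg.Prelude.Def_LocalEven
import Cfsg.Agent.Lib.Helper4.Basic
import Cfsg.Agent.Lib.Helper4.PReduced

set_option autoImplicit false
open Cfsg
open Cfsg.Agent.Lib

namespace Cfsg.Agent.Lib.Helper4

theorem mem_sylow_mul_of_pow_mem {L : Type*} [Group L] [Finite L] {p : ℕ} [Fact p.Prime]
    (C : Subgroup L) [C.Normal] (T : Sylow p L) (D : Subgroup L) (hD : D.Normal)
    (hDp : ∀ d ∈ D, ∃ k : ℕ, d ^ (p ^ k) ∈ C) :
    ∀ d ∈ D, ∃ t ∈ (T : Subgroup L), ∃ c ∈ C, d = t * c := by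
  intro d hd
  have h1 : (D.map (QuotientGroup.mk' C)).Normal := hD.map _ (QuotientGroup.mk'_surjective C)
  have h2 : IsPGroup p ↥(D.map (QuotientGroup.mk' C)) := by
    rintro ⟨x, e, he, rfl⟩
    obtain ⟨k, hk⟩ := hDp e he
    refine ⟨k, ?_⟩
    apply Subtype.ext
    rw [Subgroup.coe_pow, Subgroup.coe_one]
    show (QuotientGroup.mk' C e) ^ (p ^ k) = 1
    rw [← map_pow]
    exact (QuotientGroup.eq_one_iff _).mpr hk
  have h3 := normal_pGroup_le_sylow (T.mapSurjective (QuotientGroup.mk'_surjective C)) h1 h2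
  have h4 : QuotientGroup.mk' C d ∈ ((T.mapSurjective (QuotientGroup.mk'_surjective C) : Sylow p (L ⧸ C)) : Subgroup (L ⧸ C)) :=
    h3 ⟨d, hd, rfl⟩
  rw [Sylow.coe_mapSurjective] at h4
  obtain ⟨t, ht, hte⟩ := h4
  refine ⟨t, ht, t⁻¹ * d, ?_, by group⟩
  exact QuotientGroup.eq.mp hte

theorem isPReducedNormal_of {L : Type*} [Group L] [Finite L] {p : ℕ} (V : Subgroup L) (hn : V.Normal)
    (hcomm : ∀ a ∈ V, ∀ b ∈ V, a * b = b * a) (hexp : ∀ a ∈ V, a ^ p = 1)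
    (h : ∀ D : Subgroup L, D.Normal →
      (∀ d ∈ D, ∃ k : ℕ, d ^ (p ^ k) ∈ Subgroup.centralizer (V : Set L)) →
      D ≤ Subgroup.centralizer (V : Set L)) :
    Cfsg.IsPReducedNormal p V := by
  refine ⟨hn, ⟨?_, hexp⟩, ?_⟩
  · constructor
    constructor
    intro a b
    apply Subtype.ext
    exact hcomm a a.2 b b.2
  · have hcn : (Subgroup.centralizer (V : Set L)).Normal := Subgroup.normal_centralizer
    exact ⟨hcn, pCore_quot_bot_of_le _ h⟩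

theorem IsPReducedNormal.comm' {L : Type*} [Group L] {p : ℕ} {V : Subgroup L}
    (hV : Cfsg.IsPReducedNormal p V) : ∀ a ∈ V, ∀ b ∈ V, a * b = b * a := by
  obtain ⟨_, ⟨hc, _⟩, _, _⟩ := hV
  intro a ha b hb
  have := hc.is_comm.comm ⟨a, ha⟩ ⟨b, hb⟩
  exact congrArg Subtype.val this

theorem IsPReducedNormal.le_centralizer_of_pow {L : Type*} [Group L] {p : ℕ} {V : Subgroup L}
    (hV : Cfsg.IsPReducedNormal p V) (D : Subgroup L) (hD : D.Normal)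
    (hDp : ∀ d ∈ D, ∃ k : ℕ, d ^ (p ^ k) ∈ Subgroup.centralizer (V : Set L)) :
    D ≤ Subgroup.centralizer (V : Set L) := by
  obtain ⟨_, _, hcn, hb⟩ := hV
  exact le_of_pCore_quot_bot _ hb D hD hDp

theorem sup_normal_of_factor {L : Type*} [Group L] (N C Q : Subgroup L) [hC : C.Normal]
    (hfac : ∀ g : L, ∃ a ∈ N, ∃ c ∈ C, g = a * c)
    (hQ : ∀ a ∈ N, ∀ q ∈ Q, a * q * a⁻¹ ∈ Q) : (Q ⊔ C).Normal := by
  constructor
  intro x hx g
  rw [Subgroup.mem_sup_of_normal_right] at hx ⊢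
  obtain ⟨q, hq, c₀, hc₀, rfl⟩ := hx
  obtain ⟨a, ha, c', hc', rfl⟩ := hfac g
  refine ⟨a * q * a⁻¹, hQ a ha q hq, a * (q⁻¹ * c' * q * c₀ * c'⁻¹) * a⁻¹, ?_, by group⟩
  apply hC.conj_mem
  have h1 : q⁻¹ * c' * q ∈ C := by
    have := hC.conj_mem c' hc' q⁻¹
    rwa [inv_inv] at this
  exact C.mul_mem (C.mul_mem h1 hc₀) (C.inv_mem hc')

theorem pow_mem_of_sup {L : Type*} [Group L] {p : ℕ} (Q C : Subgroup L) [hC : C.Normal]
    (hQ : ∀ q ∈ Q, ∃ k : ℕ, q ^ (p ^ k) ∈ C) :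
    ∀ d ∈ Q ⊔ C, ∃ k : ℕ, d ^ (p ^ k) ∈ C := by
  intro d hd
  rw [Subgroup.mem_sup_of_normal_right] at hd
  obtain ⟨d0, hd0, c, hc, rfl⟩ := hd
  obtain ⟨k, hk⟩ := hQ d0 hd0
  refine ⟨k, ?_⟩
  rw [← QuotientGroup.eq_one_iff, QuotientGroup.mk_pow, QuotientGroup.mk_mul,
    (QuotientGroup.eq_one_iff c).mpr hc, mul_one, ← QuotientGroup.mk_pow]
  exact (QuotientGroup.eq_one_iff _).mpr hk

theorem le_normalizer_inf_of_normal {L : Type*} [Group L] (S C : Subgroup L) [hC : C.Normal] :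
    S ≤ Subgroup.normalizer ((S ⊓ C : Subgroup L) : Set L) := by
  intro s hs
  rw [Subgroup.mem_normalizer_iff]
  intro x
  constructor
  · intro hx
    obtain ⟨hx1, hx2⟩ := Subgroup.mem_inf.mp hx
    exact Subgroup.mem_inf.mpr ⟨S.mul_mem (S.mul_mem hs hx1) (S.inv_mem hs), hC.conj_mem x hx2 s⟩
  · intro hx
    obtain ⟨hx1, hx2⟩ := Subgroup.mem_inf.mp hx
    have e : s⁻¹ * (s * x * s⁻¹) * s⁻¹⁻¹ = x := by group
    refine Subgroup.mem_inf.mpr ⟨?_, ?_⟩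
    · have := S.mul_mem (S.mul_mem (S.inv_mem hs) hx1) (S.inv_mem (S.inv_mem hs))
      rwa [e] at this
    · have := hC.conj_mem _ hx2 s⁻¹
      rwa [e] at this

end Cfsg.Agent.Lib.Helper4
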