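import Mathlib
import Cfsg.Agent.Lib.Helper8.Syl
import Cfsg.Agent.Lib.Lead.Coprime
import Cfsg.Agent.Lib.Lead.PQ
import Cfsg.Agent.Lib.Helper4.StrEmb
import Cfsg.Agent.Lib.Helper4.PReduced2
import Cfsg.Agent.Lib.Helper4.Large
import Cfsg.Agent.Lib.Helper4.CharP
import Cfsg.Agent.Lib.Helper4.WC

set_option autoImplicit false
open scoped commutatorElement

namespace Cfsg.Agent.Lib.Helper4

variable {H : Type*} [Group H]

theorem comm_inf_centralizer_eq_bot [Finite H] (A V : Subgroup H)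
    (hAV : A ≤ Subgroup.normalizer (V : Set H)) (hV : ∀ a ∈ V, ∀ b ∈ V, a * b = b * a)
    (hcop : ∀ v ∈ V, v ^ Nat.card A = 1 → v = 1) :
    ⁅V, A⁆ ⊓ Subgroup.centralizer (A : Set H) = ⊥ := by
  classical
  letI cg : CommGroup ↥V :=
    { (inferInstance : Group ↥V) with mul_comm := fun a b => Subtype.ext (hV a a.2 b b.2) }
  haveI : Fintype ↥A := Fintype.ofFinite _
  have hmem : ∀ a : ↥A, ∀ v : ↥V, (a : H) * (v : H) * (a : H)⁻¹ ∈ V := fun a v =>
    (Subgroup.mem_normalizer_iff.mp (hAV a.2) v).mp v.2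
  let cV : ↥A → (↥V →* ↥V) := fun a =>
    { toFun := fun v => ⟨(a : H) * (v : H) * (a : H)⁻¹, hmem a v⟩
      map_one' := by apply Subtype.ext; simp
      map_mul' := by
        intro x y
        apply Subtype.ext
        show (a : H) * ((x : H) * (y : H)) * (a : H)⁻¹ = ((a : H) * (x : H) * (a : H)⁻¹) * ((a : H) * (y : H) * (a : H)⁻¹)
        group }
  have hcV : ∀ (a : ↥A) (v : ↥V), ((cV a v : ↥V) : H) = (a : H) * (v : H) * (a : H)⁻¹ := fun a v => rfl
  let N : ↥V →* ↥V := ∏ a : ↥A, cV a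
  have hNapp : ∀ v : ↥V, N v = ∏ a : ↥A, cV a v := fun v => MonoidHom.finset_prod_apply _ _ _
  have hN1 : ∀ (b : ↥A) (v : ↥V), N (cV b v) = N v := by
    intro b v
    rw [hNapp, hNapp]
    refine Fintype.prod_equiv (Equiv.mulRight b) _ _ ?_
    intro a
    apply Subtype.ext
    rw [hcV, hcV, hcV]
    show (a : H) * ((b : H) * (v : H) * (b : H)⁻¹) * (a : H)⁻¹ = ((a * b : ↥A) : H) * (v : H) * ((a * b : ↥A) : H)⁻¹
    have e : ((a * b : ↥A) : H) = (a : H) * (b : H) := rfl
    rw [e]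
    group
  have hN2 : ∀ v : ↥V, (∀ a : ↥A, cV a v = v) → N v = v ^ Nat.card A := by
    intro v hv
    rw [hNapp, Finset.prod_congr rfl (fun a _ => hv a), Finset.prod_const, Finset.card_univ,
      Nat.card_eq_fintype_card]
  have hK : ⁅V, A⁆ ≤ (N.ker).map V.subtype := by
    rw [Subgroup.commutator_le]
    intro v hv a ha
    refine ⟨(⟨v, hv⟩ : ↥V) * cV ⟨a, ha⟩ (⟨v, hv⟩ : ↥V)⁻¹, ?_, ?_⟩
    · refine MonoidHom.mem_ker.mpr ?_
      rw [map_mul, hN1, ← map_mul, mul_inv_cancel, map_one]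
    · rw [commutatorElement_def]
      show v * (a * v⁻¹ * a⁻¹) = v * a * v⁻¹ * a⁻¹
      group
  rw [eq_bot_iff]
  intro y hy
  obtain ⟨hy1, hy2⟩ := Subgroup.mem_inf.mp hy
  obtain ⟨y', hy', rfl⟩ := hK hy1
  have hy'' : N y' = 1 := MonoidHom.mem_ker.mp hy'
  have hfix : ∀ a : ↥A, cV a y' = y' := by
    intro a
    apply Subtype.ext
    rw [hcV]
    have := Subgroup.mem_centralizer_iff.mp hy2 a a.2
    have h1 : (a : H) * (y' : H) = (y' : H) * (a : H) := this
    rw [h1, mul_assoc, mul_inv_cancel, mul_one]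
  have h3 := hN2 y' hfix
  rw [hy''] at h3
  have h4 : (y' : H) ^ Nat.card A = 1 := by
    have := congrArg Subtype.val h3.symm
    rw [Subgroup.coe_pow] at this
    exact this
  rw [Subgroup.mem_bot]
  exact hcop _ y'.2 h4

theorem axb_abelian [Finite H] {p : ℕ} [Fact p.Prime] (W : Subgroup H) (hWp : IsPGroup p ↥W)
    (hWc : ∀ a ∈ W, ∀ b ∈ W, a * b = b * a) (x : H) (hxW : x ∈ Subgroup.normalizer (W : Set H))
    (hxo : (orderOf x).Coprime p) (E : Subgroup H) (hEW : E ≤ Subgroup.normalizer (W : Set H))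
    (hEp : ∀ e ∈ E, ∃ k : ℕ, e ^ (p ^ k) ∈ Subgroup.centralizer (W : Set H))
    (hxE : ∀ e ∈ E, e * x * e⁻¹ * x⁻¹ ∈ Subgroup.centralizer (W : Set H))
    (hfix : W ⊓ Subgroup.centralizer (E : Set H) ≤ Subgroup.centralizer ({x} : Set H)) :
    W ≤ Subgroup.centralizer ({x} : Set H) := by
  have hp : p.Prime := Fact.out
  have hAW : Subgroup.zpowers x ≤ Subgroup.normalizer (W : Set H) := Subgroup.zpowers_le.mpr hxW
  have hNC := normalizer_le_normalizer_centralizer' W
  have hAC : Subgroup.zpowers x ≤ Subgroup.normalizer ((Subgroup.centralizer (W : Set H) : Subgroup H) : Set H) :=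
    hAW.trans hNC
  have hW1W : ⁅W, Subgroup.zpowers x⁆ ≤ W := Lead.commutator_le_of_le_normalizer W _ hAW
  have h1 : ⁅W, Subgroup.centralizer (W : Set H) ⊔ Subgroup.zpowers x⁆ = ⁅W, Subgroup.zpowers x⁆ := by
    apply le_antisymm
    · rw [Subgroup.commutator_le]
      intro w hw g hg
      obtain ⟨c, hc, a, ha, rfl⟩ := Lead.mem_sup_of_le_normalizer hAC hg
      have hwc : w * c = c * w := Subgroup.mem_centralizer_iff.mp hc w hw
      have hy : ⁅w, a⁆ ∈ W := hW1W (Subgroup.commutator_mem_commutator hw ha)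
      have hyc : ⁅w, a⁆ * c = c * ⁅w, a⁆ := Subgroup.mem_centralizer_iff.mp hc _ hy
      have e1 : ⁅w, c * a⁆ = ⁅w, a⁆ := by
        have e2 : ⁅w, c * a⁆ = (w * c) * a * w⁻¹ * a⁻¹ * c⁻¹ := by
          rw [commutatorElement_def]; group
        have e3 : c * w * a * w⁻¹ * a⁻¹ * c⁻¹ = c * ⁅w, a⁆ * c⁻¹ := by
          rw [commutatorElement_def]; group
        rw [e2, hwc, e3, ← hyc, mul_assoc, mul_inv_cancel, mul_one]
      rw [e1]
      exact Subgroup.commutator_mem_commutator hw ha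
    · exact Subgroup.commutator_mono (le_refl W) le_sup_right
  have hE1 : E ≤ Subgroup.normalizer ((⁅W, Subgroup.zpowers x⁆ : Subgroup H) : Set H) := by
    have hE2 : E ≤ Subgroup.normalizer ((Subgroup.centralizer (W : Set H) ⊔ Subgroup.zpowers x : Subgroup H) : Set H) := by
      apply le_normalizer_of_forall_conj
      intro e he g hg
      obtain ⟨c, hc, a, ha, rfl⟩ := Lead.mem_sup_of_le_normalizer hAC hg
      obtain ⟨k, rfl⟩ := Subgroup.mem_zpowers_iff.mp ha
      have e1 : e * (c * x ^ k) * e⁻¹ = (e * c * e⁻¹) * (e * x * e⁻¹) ^ k := by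
        rw [conj_zpow]; group
      rw [e1]
      refine Subgroup.mul_mem _ ((le_sup_left : Subgroup.centralizer (W : Set H) ≤ _) ?_) (Subgroup.zpow_mem _ ?_ k)
      · exact (Subgroup.mem_normalizer_iff.mp (hNC (hEW he)) c).mp hc
      · have e2 : e * x * e⁻¹ = (e * x * e⁻¹ * x⁻¹) * x := by group
        rw [e2]
        exact Subgroup.mul_mem _ ((le_sup_left : Subgroup.centralizer (W : Set H) ≤ _) (hxE e he))
          ((le_sup_right : Subgroup.zpowers x ≤ _) (Subgroup.mem_zpowers x))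
    intro e he
    have := Lead.mem_normalizer_commutator (hEW he) (hE2 he)
    rw [h1] at this
    exact this
  have hbot : ⁅W, Subgroup.zpowers x⁆ = ⊥ := by
    by_contra hne
    obtain ⟨T⟩ : Nonempty (Sylow p ↥E) := inferInstance
    have hBp : IsPGroup p ↥((T : Subgroup ↥E).map E.subtype) := T.isPGroup'.map _
    have hBE : (T : Subgroup ↥E).map E.subtype ≤ E := Subgroup.map_subtype_le _
    haveI hCn : ((Subgroup.centralizer (W : Set H)).subgroupOf E).Normal := by
      constructor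
      intro d hd g
      rw [Subgroup.mem_subgroupOf] at hd ⊢
      exact (Subgroup.mem_normalizer_iff.mp (hNC (hEW g.2)) _).mp hd
    have hdec : ∀ e ∈ E, ∃ t ∈ (T : Subgroup ↥E).map E.subtype, ∃ c ∈ Subgroup.centralizer (W : Set H), e = t * c := by
      intro e he
      obtain ⟨t, ht, c, hc, hetc⟩ := mem_sylow_mul_of_pow_mem ((Subgroup.centralizer (W : Set H)).subgroupOf E) T ⊤ inferInstance
        (by
          intro d _
          obtain ⟨k, hk⟩ := hEp d d.2
          refine ⟨k, ?_⟩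
          rw [Subgroup.mem_subgroupOf, Subgroup.coe_pow]
          exact hk) ⟨e, he⟩ (Subgroup.mem_top _)
      refine ⟨t, ⟨t, ht, rfl⟩, c, Subgroup.mem_subgroupOf.mp hc, ?_⟩
      exact congrArg Subtype.val hetc
    have hBW1 : (T : Subgroup ↥E).map E.subtype ≤ Subgroup.normalizer ((⁅W, Subgroup.zpowers x⁆ : Subgroup H) : Set H) :=
      hBE.trans hE1
    have hR : IsPGroup p ↥(⁅W, Subgroup.zpowers x⁆ ⊔ (T : Subgroup ↥E).map E.subtype) :=
      IsPGroup.to_sup_of_normal_left' (hWp.to_le hW1W) hBp hBW1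
    obtain ⟨f, hfW1, hfo, hfc⟩ := exists_central_order_p hR le_sup_left (sup_le Subgroup.le_normalizer hBW1) hne
    have hfW : f ∈ W := hW1W hfW1
    have hfE : f ∈ Subgroup.centralizer (E : Set H) := by
      rw [Subgroup.mem_centralizer_iff]
      intro e he
      obtain ⟨t, ht, c, hc, rfl⟩ := hdec e he
      have h2 : t * f = f * t := hfc t ((le_sup_right : (T : Subgroup ↥E).map E.subtype ≤ _) ht)
      have h3 : f * c = c * f := Subgroup.mem_centralizer_iff.mp hc f hfW
      rw [mul_assoc, ← h3, ← mul_assoc, h2, mul_assoc]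
    have hfx : f ∈ Subgroup.centralizer ({x} : Set H) := hfix (Subgroup.mem_inf.mpr ⟨hfW, hfE⟩)
    have hfA : f ∈ Subgroup.centralizer ((Subgroup.zpowers x : Subgroup H) : Set H) := by
      rw [Subgroup.mem_centralizer_iff]
      intro a ha
      obtain ⟨k, rfl⟩ := Subgroup.mem_zpowers_iff.mp ha
      have h2 : Commute x f := Subgroup.mem_centralizer_iff.mp hfx x rfl
      exact (h2.zpow_left k).eq
    have hd := comm_inf_centralizer_eq_bot (Subgroup.zpowers x) W hAW hWc (by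
      intro v hv hv1
      rw [Nat.card_zpowers] at hv1
      exact pelem_coprime_one W hWp v hv _ hxo hv1)
    have hf1 : f ∈ (⊥ : Subgroup H) := by
      rw [← hd]
      exact Subgroup.mem_inf.mpr ⟨hfW1, hfA⟩
    rw [Subgroup.mem_bot] at hf1
    rw [hf1, orderOf_one] at hfo
    exact hp.one_lt.ne hfo
  have h2 : W ≤ Subgroup.centralizer ((Subgroup.zpowers x : Subgroup H) : Set H) :=
    Subgroup.commutator_eq_bot_iff_le_centralizer.mp hbot
  intro w hw
  rw [Subgroup.mem_centralizer_iff]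
  intro y hy
  rw [Set.mem_singleton_iff.mp hy]
  exact Subgroup.mem_centralizer_iff.mp (h2 hw) x (Subgroup.mem_zpowers x)

end Cfsg.Agent.Lib.Helper4
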