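import Mathlib

set_option autoImplicit false
open scoped commutatorElement

namespace Cfsg.Agent.Lib.Helper4

theorem comm_le_left_of_le_normalizer {H : Type*} [Group H] (K Y : Subgroup H)
    (hYK : Y ≤ Subgroup.normalizer (K : Set H)) : ⁅K, Y⁆ ≤ K := by
  rw [Subgroup.commutator_le]
  intro g₁ h₁ g₂ h₂
  have hg2 := hYK h₂
  rw [Subgroup.mem_normalizer_iff] at hg2
  have h3 : g₂ * g₁⁻¹ * g₂⁻¹ ∈ K := (hg2 g₁⁻¹).mp (K.inv_mem h₁)
  have h4 : ⁅g₁, g₂⁆ = g₁ * (g₂ * g₁⁻¹ * g₂⁻¹) := by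
    rw [commutatorElement_def]; group
  rw [h4]
  exact K.mul_mem h₁ h3

theorem conj_mem_commutator {H : Type*} [Group H] (K Y : Subgroup H) (k' : H) (hk' : k' ∈ K) :
    ∀ n ∈ ⁅K, Y⁆, k' * n * k'⁻¹ ∈ ⁅K, Y⁆ := by
  have h : ⁅K, Y⁆ ≤ (⁅K, Y⁆).comap (MulAut.conj k').toMonoidHom := by
    rw [Subgroup.commutator_le]
    intro g₁ h₁ g₂ h₂
    rw [Subgroup.mem_comap]
    show k' * ⁅g₁, g₂⁆ * k'⁻¹ ∈ ⁅K, Y⁆
    have h1 : k' * ⁅g₁, g₂⁆ * k'⁻¹ = ⁅k' * g₁, g₂⁆ * ⁅k', g₂⁆⁻¹ := by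
      simp only [commutatorElement_def]; group
    rw [h1]
    exact Subgroup.mul_mem _ (Subgroup.commutator_mem_commutator (K.mul_mem hk' h₁) h₂)
      (Subgroup.inv_mem _ (Subgroup.commutator_mem_commutator hk' h₂))
  intro n hn
  exact h hn

theorem le_normalizer_commutator_left {H : Type*} [Group H] (K Y : Subgroup H) :
    K ≤ Subgroup.normalizer ((⁅K, Y⁆ : Subgroup H) : Set H) := by
  intro k hk
  rw [Subgroup.mem_normalizer_iff]
  intro h
  constructor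
  · intro hh
    exact conj_mem_commutator K Y k hk h hh
  · intro hh
    have := conj_mem_commutator K Y k⁻¹ (K.inv_mem hk) _ hh
    have h2 : k⁻¹ * (k * h * k⁻¹) * k⁻¹⁻¹ = h := by group
    rw [h2] at this
    exact this

theorem map_conj_eq_of_mem_normalizer {H : Type*} [Group H] (V : Subgroup H) (g : H)
    (hg : g ∈ Subgroup.normalizer (V : Set H)) : V.map (MulAut.conj g).toMonoidHom = V := by
  rw [Subgroup.mem_normalizer_iff] at hg
  ext x
  rw [Subgroup.mem_map]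
  constructor
  · rintro ⟨v, hv, rfl⟩
    exact (hg v).mp hv
  · intro hx
    refine ⟨g⁻¹ * x * g, ?_, ?_⟩
    · rw [hg]
      have : g * (g⁻¹ * x * g) * g⁻¹ = x := by group
      rw [this]; exact hx
    · show g * (g⁻¹ * x * g) * g⁻¹ = x
      group

end Cfsg.Agent.Lib.Helper4
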