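import Mathlib
import Cfsg.Prelude.Def_Local
import Cfsg.Agent.Lib.Helper2.Comp7
import Cfsg.Agent.Lib.Lead.Coprime

set_option autoImplicit false
open Cfsg
open Cfsg.Agent.Lib
open scoped commutatorElement

namespace Cfsg.Agent.Lib.Helper4

variable {G : Type*} [Group G]

theorem perfect_key {R : Subgroup G} (hperf : ⁅R, R⁆ = R) (C : Subgroup G)
    (hCc : ⁅C, R⁆ ≤ Subgroup.centralizer (R : Set G)) : C ≤ Subgroup.centralizer (R : Set G) := by
  have h1 : ⁅⁅C, R⁆, R⁆ = ⊥ := Subgroup.commutator_eq_bot_iff_le_centralizer.mpr hCc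
  have h2 : ⁅⁅R, C⁆, R⁆ = ⊥ := by rw [Subgroup.commutator_comm R C]; exact h1
  have h3 : ⁅⁅R, R⁆, C⁆ = ⊥ := Subgroup.commutator_commutator_eq_bot_of_rotate h2 h1
  rw [hperf, Subgroup.commutator_comm] at h3
  exact Subgroup.commutator_eq_bot_iff_le_centralizer.mp h3

theorem quasisimple_le_comm_or_centralizer {L Y K : Subgroup G}
    (hYL : Y ≤ Subgroup.normalizer (L : Set G)) (hKL : K ≤ L)
    (hLK : L ≤ Subgroup.normalizer (K : Set G)) (hq : Cfsg.IsQuasisimple ↥K) :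
    K ≤ ⁅L, Y⁆ ∨ K ≤ Subgroup.centralizer (Y : Set G) := by
  have hperf := Helper2.Comp.perfect_of_isQuasisimple hq
  have hcL : ⁅L, Y⁆ ≤ L := Lead.commutator_le_of_le_normalizer L Y hYL
  have hLn : L ≤ Subgroup.normalizer ((⁅L, Y⁆ : Subgroup G) : Set G) := Lead.le_normalizer_commutator L Y
  have hKn : K ≤ Subgroup.normalizer ((⁅L, Y⁆ ⊓ K : Subgroup G) : Set G) :=
    Helper2.Comp.le_normalizer_inf (hKL.trans hLn) Subgroup.le_normalizer
  rcases Helper2.Comp.normal_sub hq (inf_le_right : ⁅L, Y⁆ ⊓ K ≤ K) hKn with h | h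
  · left
    exact h ▸ inf_le_left
  · right
    have hX : ⁅K, Y⁆ ≤ ⁅L, Y⁆ := Subgroup.commutator_mono hKL le_rfl
    have h1 : ⁅⁅K, Y⁆, K⁆ ≤ ⁅L, Y⁆ :=
      (Subgroup.commutator_mono hX le_rfl).trans
        (Lead.commutator_le_of_le_normalizer _ K (hKL.trans hLn))
    have h2 : ⁅⁅K, Y⁆, K⁆ ≤ K := by
      rw [Subgroup.commutator_comm]
      exact Lead.commutator_le_of_le_normalizer K _ ((hX.trans hcL).trans hLK)
    have h3 : ⁅K, Y⁆ ≤ Subgroup.centralizer (K : Set G) :=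
      perfect_key hperf _ ((le_inf h1 h2).trans h)
    have h4 : Y ≤ Subgroup.centralizer (K : Set G) := by
      apply perfect_key hperf
      rw [Subgroup.commutator_comm]
      exact h3
    exact Subgroup.le_centralizer_iff.mp h4

theorem sup_centralizer_eq [Finite G] {p : ℕ} [Fact p.Prime] (L Y : Subgroup G) (hYp : IsPGroup p Y)
    (hYL : Y ≤ Subgroup.normalizer (L : Set G)) (𝒦 : Set (Subgroup G))
    (h𝒦 : ∀ K ∈ 𝒦, K ≤ L ∧ L ≤ Subgroup.normalizer (K : Set G) ∧ Cfsg.IsQuasisimple ↥K)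
    (F : Subgroup G) (hFL : F ≤ L) (hYF : Y ≤ Subgroup.normalizer (F : Set G))
    (hFcop : (Nat.card F).Coprime p) (hL : L ≤ sSup 𝒦 ⊔ F) :
    ⁅L, Y⁆ ⊔ (L ⊓ Subgroup.centralizer (Y : Set G)) = L := by
  have hcL : ⁅L, Y⁆ ≤ L := Lead.commutator_le_of_le_normalizer L Y hYL
  apply le_antisymm (sup_le hcL inf_le_left)
  refine hL.trans (sup_le (sSup_le ?_) ?_)
  · intro K hK
    obtain ⟨hKL, hLK, hq⟩ := h𝒦 K hK
    rcases quasisimple_le_comm_or_centralizer hYL hKL hLK hq with h | h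
    · exact h.trans le_sup_left
    · exact (le_inf hKL h).trans le_sup_right
  · intro f hf
    have hcop : (Nat.card Y).Coprime (Nat.card F) := by
      obtain ⟨k, hk⟩ := IsPGroup.iff_card.mp hYp
      rw [hk]
      exact Nat.Coprime.pow_left k hFcop.symm
    have hsolv : Group.IsSolvable Y := by
      haveI := hYp.isNilpotent
      infer_instance
    obtain ⟨d, hd, c, hc, rfl⟩ := Lead.exists_commutator_mul_centralizer Y F hYF hcop (Or.inl hsolv) hf
    exact Subgroup.mul_mem _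
      (Subgroup.mem_sup_left (Subgroup.commutator_mono hFL le_rfl hd))
      (Subgroup.mem_sup_right ⟨hFL hc.1, hc.2⟩)

theorem comm_comm_eq_of_sup {L Y : Subgroup G} (hYL : Y ≤ Subgroup.normalizer (L : Set G))
    (h : ⁅L, Y⁆ ⊔ (L ⊓ Subgroup.centralizer (Y : Set G)) = L) : ⁅L, Y⁆ = ⁅⁅L, Y⁆, Y⁆ := by
  have hcL : ⁅L, Y⁆ ≤ L := Lead.commutator_le_of_le_normalizer L Y hYL
  apply le_antisymm
  · rw [Subgroup.commutator_le]
    intro l hl y hy
    have hl' : l ∈ ⁅L, Y⁆ ⊔ (L ⊓ Subgroup.centralizer (Y : Set G)) := (le_of_eq h.symm) hl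
    have hn : L ⊓ Subgroup.centralizer (Y : Set G) ≤
        Subgroup.normalizer ((⁅L, Y⁆ : Subgroup G) : Set G) :=
      inf_le_left.trans (Lead.le_normalizer_commutator L Y)
    obtain ⟨d, hd, c, hc, rfl⟩ := Lead.mem_sup_of_le_normalizer hn hl'
    have hcy : y * c = c * y := Subgroup.mem_centralizer_iff.mp hc.2 y hy
    have e : ⁅d * c, y⁆ = ⁅d, y⁆ := by
      rw [commutatorElement_def, commutatorElement_def]
      calc d * c * y * (d * c)⁻¹ * y⁻¹ = d * (c * y) * c⁻¹ * d⁻¹ * y⁻¹ := by group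
        _ = d * (y * c) * c⁻¹ * d⁻¹ * y⁻¹ := by rw [hcy]
        _ = d * y * d⁻¹ * y⁻¹ := by group
    rw [e]
    exact Subgroup.commutator_mem_commutator hd hy
  · exact Subgroup.commutator_mono hcL le_rfl

end Cfsg.Agent.Lib.Helper4
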