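import Mathlib

set_option autoImplicit false
open scoped commutatorElement

namespace Cfsg.Agent.Lib.Helper4

theorem frattini_le_of_comm_pow {P : Type*} [Group P] [Finite P] {p : ℕ} [Fact p.Prime]
    (K : Subgroup P) (hK1 : ∀ x y : P, ⁅x, y⁆ ∈ K) (hK2 : ∀ x : P, x ^ p ∈ K) : frattini P ≤ K := by
  have hp : p.Prime := Fact.out
  by_contra hcon
  obtain ⟨x, hxF, hxK⟩ := SetLike.not_le_iff_exists.mp hcon
  obtain ⟨M, hKM, hMmax⟩ := Finite.exists_le_maximal (p := fun M : Subgroup P => K ≤ M ∧ x ∉ M)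
    (a := K) ⟨le_rfl, hxK⟩
  have hKM' : K ≤ M := hMmax.1.1
  have hxM : x ∉ M := hMmax.1.2
  have hMn : M.Normal := by
    constructor
    intro m hm g
    have h1 : g * m * g⁻¹ = ⁅g, m⁆ * m := by
      rw [commutatorElement_def]; group
    rw [h1]
    exact M.mul_mem (hKM' (hK1 g m)) hm
  have hcoatom : IsCoatom M := by
    refine ⟨fun h => hxM (h ▸ Subgroup.mem_top x), ?_⟩
    intro N hMN
    have hxN : x ∈ N := by
      by_contra hxN
      have := hMmax.2 (y := N) ⟨hKM'.trans hMN.le, hxN⟩ hMN.le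
      exact (not_le_of_gt hMN) this
    rw [eq_top_iff]
    intro y _
    by_cases hyM : y ∈ M
    · exact hMN.le hyM
    · have hlt : M < M ⊔ Subgroup.zpowers y := by
        refine lt_of_le_of_ne le_sup_left ?_
        intro h
        apply hyM
        rw [h]
        exact (le_sup_right : Subgroup.zpowers y ≤ M ⊔ Subgroup.zpowers y) (Subgroup.mem_zpowers y)
      have hxM' : x ∈ M ⊔ Subgroup.zpowers y := by
        by_contra hx'
        have := hMmax.2 (y := M ⊔ Subgroup.zpowers y) ⟨hKM'.trans le_sup_left, hx'⟩ hlt.le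
        exact (not_le_of_gt hlt) this
      rw [Subgroup.mem_sup_of_normal_left] at hxM'
      obtain ⟨m, hm, z, hz, hmz⟩ := hxM'
      rw [Subgroup.mem_zpowers_iff] at hz
      obtain ⟨k, rfl⟩ := hz
      have hyk : y ^ k ∈ N := by
        have : y ^ k = m⁻¹ * x := by rw [← hmz]; group
        rw [this]
        exact N.mul_mem (N.inv_mem (hMN.le hm)) hxN
      have hpk : ¬ (p : ℤ) ∣ k := by
        rintro ⟨j, rfl⟩
        apply hxM
        rw [← hmz]
        refine M.mul_mem hm (hKM' ?_)
        have : y ^ ((p : ℤ) * j) = (y ^ j) ^ p := by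
          rw [mul_comm, zpow_mul, zpow_natCast]
        rw [this]
        exact hK2 _
      have hcop : IsCoprime k (p : ℤ) := by
        have hpp : Prime (p : ℤ) := Nat.prime_iff_prime_int.mp hp
        exact (hpp.coprime_iff_not_dvd.mpr hpk).symm
      obtain ⟨a, b, hab⟩ := hcop
      have hy : y = (y ^ k) ^ a * (y ^ b) ^ p := by
        have h1 : (y ^ k) ^ a = y ^ (a * k) := by rw [mul_comm, zpow_mul]
        have h2 : (y ^ b) ^ p = y ^ (b * (p : ℤ)) := by rw [zpow_mul, zpow_natCast]
        rw [h1, h2, ← zpow_add, hab, zpow_one]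
      rw [hy]
      exact N.mul_mem (N.zpow_mem hyk a) (hMN.le (hKM' (hK2 _)))
  exact hxM (frattini_le_coatom hcoatom hxF)

end Cfsg.Agent.Lib.Helper4
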