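import Mathlib
import Cfsg.Prelude.Def_Transfer
import Cfsg.Prelude.Def_LocalStructure
import Cfsg.Prelude.Def_BaumannBlocks
import Cfsg.Agent.Lib.Helper6.Wielandt
import Cfsg.Agent.Lib.Lead.Transfer
import Cfsg.Agent.Lib.Helper4.WCEngine

set_option autoImplicit false
open scoped commutatorElement

namespace Cfsg.Agent.Lib.Helper4

open Cfsg

variable {H : Type*} [Group H]

theorem pResidualOf_eq_pGen (p : ℕ) (S : Subgroup H) : Cfsg.pResidualOf p S = pGen p S := by
  apply le_antisymm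
  · unfold Cfsg.pResidualOf Cfsg.pResidual
    rw [Subgroup.map_le_iff_le_comap]
    apply (Subgroup.closure_le _).mpr
    intro g hg
    show (g : H) ∈ pGen p S
    apply Subgroup.subset_closure
    refine ⟨g.2, ?_⟩
    have h1 : Nat.Coprime (orderOf g) p := hg
    rw [← Subgroup.orderOf_coe] at h1
    exact h1
  · apply (Subgroup.closure_le _).mpr
    rintro g ⟨hgS, hg⟩
    refine ⟨⟨g, hgS⟩, ?_, rfl⟩
    apply Subgroup.subset_closure
    show Nat.Coprime (orderOf (⟨g, hgS⟩ : ↥S)) p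
    rw [← Subgroup.orderOf_coe]
    exact hg

theorem pGen_mono (p : ℕ) {A B : Subgroup H} (h : A ≤ B) : pGen p A ≤ pGen p B := by
  apply Subgroup.closure_mono
  rintro g ⟨hg, hco⟩
  exact ⟨h hg, hco⟩

theorem mem_pGen {p : ℕ} {S : Subgroup H} {g : H} (hg : g ∈ S) (hco : (orderOf g).Coprime p) :
    g ∈ pGen p S :=
  Subgroup.subset_closure ⟨hg, hco⟩

theorem pGen_le_of {p : ℕ} {S X : Subgroup H} (h : ∀ g ∈ S, (orderOf g).Coprime p → g ∈ X) :
    pGen p S ≤ X := by
  apply (Subgroup.closure_le _).mpr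
  rintro g ⟨hg, hco⟩
  exact h g hg hco

theorem subnormal_pCoreOf_le [Finite H] {p : ℕ} [Fact p.Prime] {A : Subgroup H} (hA : A.IsSubnormal) :
    Cfsg.pCoreOf p A ≤ Cfsg.pCore p H := by
  induction hA with
  | top =>
    haveI : (⊤ : Subgroup H).Normal := inferInstance
    exact pCore_map_subtype_le p (⊤ : Subgroup H)
  | step A A₁ hle hsub hN ih =>
    refine le_trans ?_ ih
    apply le_pCoreOf ((Subgroup.map_subtype_le _).trans hle)
    · rw [Subgroup.normal_subgroupOf_iff_le_normalizer hle] at hN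
      exact hN.trans (normalizer_le_normalizer_pCoreOf p A)
    · exact pCoreOf_isPGroup p A

theorem subnormal_pgroup_le_pCore [Finite H] {p : ℕ} [Fact p.Prime] {A : Subgroup H} (hA : A.IsSubnormal)
    (hAp : IsPGroup p ↥A) : A ≤ Cfsg.pCore p H :=
  (le_pCoreOf (le_refl A) Subgroup.le_normalizer hAp).trans (subnormal_pCoreOf_le hA)

theorem normal_pgroup_normalizes_pGen [Finite H] {p : ℕ} [Fact p.Prime] {B : Subgroup H} (hB : B.IsSubnormal)
    (P : Subgroup H) (hPn : P.Normal) (hPp : IsPGroup p ↥P) :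
    P ≤ Subgroup.normalizer ((pGen p B : Subgroup H) : Set H) := by
  induction hB with
  | top =>
    refine le_trans ?_ (normalizer_le_normalizer_pGen p (⊤ : Subgroup H))
    rw [Subgroup.normalizer_eq_top_iff.mpr inferInstance]
    exact le_top
  | step B B₁ hle hsub hN ih =>
    rw [Subgroup.normal_subgroupOf_iff_le_normalizer hle] at hN
    have hR1 : pGen p B₁ ≤ Subgroup.normalizer ((pGen p B : Subgroup H) : Set H) :=
      (pGen_le p B₁).trans (hN.trans (normalizer_le_normalizer_pGen p B))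
    apply le_normalizer_of_forall_conj
    intro x hx c hc
    have h1 : pGen p B ≤ (pGen p B).comap (MulAut.conj x).toMonoidHom := by
      apply (Subgroup.closure_le _).mpr
      rintro g ⟨hgB, hgco⟩
      show (MulAut.conj x) g ∈ pGen p B
      rw [MulAut.conj_apply]
      have hgR : g ∈ pGen p B := mem_pGen hgB hgco
      have hgR1 : g ∈ pGen p B₁ := pGen_mono p hle hgR
      have hc1 : x * g * x⁻¹ * g⁻¹ ∈ P ⊓ pGen p B₁ := by
        refine Subgroup.mem_inf.mpr ⟨?_, ?_⟩
        · have h2 : g * x⁻¹ * g⁻¹ ∈ P := hPn.conj_mem _ (P.inv_mem hx) g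
          have e : x * g * x⁻¹ * g⁻¹ = x * (g * x⁻¹ * g⁻¹) := by group
          rw [e]
          exact P.mul_mem hx h2
        · exact Subgroup.mul_mem _ ((Subgroup.mem_normalizer_iff.mp (ih hx) g).mp hgR1) (Subgroup.inv_mem _ hgR1)
      have hmem : x * g * x⁻¹ ∈ pGen p B ⊔ (P ⊓ pGen p B₁) := by
        have e : x * g * x⁻¹ = (x * g * x⁻¹ * g⁻¹) * g := by group
        rw [e]
        exact Subgroup.mul_mem _ ((le_sup_right : P ⊓ pGen p B₁ ≤ _) hc1) ((le_sup_left : pGen p B ≤ _) hgR)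
      have hord : (orderOf (x * g * x⁻¹)).Coprime p := by
        have : orderOf (x * g * x⁻¹) = orderOf g := by
          have := MulEquiv.orderOf_eq (MulAut.conj x) g
          rw [MulAut.conj_apply] at this
          exact this
        rw [this]
        exact hgco
      exact coprime_mem_of_sup (inf_le_right.trans hR1) (hPp.to_le inf_le_left) hmem hord
    have h2 := h1 hc
    rw [Subgroup.mem_comap] at h2
    exact h2

theorem subnormalClosure_spec [Finite H] (A : Subgroup H) :
    A ≤ Cfsg.subnormalClosure A ∧ (Cfsg.subnormalClosure A).IsSubnormal ∧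
    ∀ K' : Subgroup H, A ≤ K' → K'.IsSubnormal → Cfsg.subnormalClosure A ≤ K' := by
  refine ⟨?_, ?_, ?_⟩
  · apply le_sInf
    rintro K ⟨hK, -⟩
    exact hK
  · obtain ⟨K₀, hK₀, hmin⟩ := WellFounded.has_min (wellFounded_lt (α := Subgroup H))
      {K : Subgroup H | A ≤ K ∧ K.IsSubnormal} ⟨⊤, le_top, Subgroup.IsSubnormal.top⟩
    have h1 : Cfsg.subnormalClosure A = K₀ := by
      apply le_antisymm (sInf_le hK₀)
      apply le_sInf
      rintro K' ⟨hAK', hK'⟩
      have h2 : K₀ ⊓ K' ∈ {K : Subgroup H | A ≤ K ∧ K.IsSubnormal} := ⟨le_inf hK₀.1 hAK', hK₀.2.inf hK'⟩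
      have h3 := hmin _ h2
      have h4 : K₀ ⊓ K' = K₀ := by
        by_contra hne
        exact h3 (lt_of_le_of_ne inf_le_left hne)
      rw [← h4]
      exact inf_le_right
    rw [h1]
    exact hK₀.2
  · intro K' hAK' hK'
    exact sInf_le ⟨hAK', hK'⟩

theorem quotient_pResidual_isPGroup (p : ℕ) [Fact p.Prime] (G : Type*) [Group G] [Finite G]
    [(Cfsg.pResidual p G).Normal] : IsPGroup p (G ⧸ Cfsg.pResidual p G) := by
  have hp : p.Prime := Fact.out
  intro x
  obtain ⟨g, rfl⟩ := QuotientGroup.mk_surjective x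
  refine ⟨(Nat.card G).factorization p, ?_⟩
  rw [← QuotientGroup.mk_pow, QuotientGroup.eq_one_iff]
  apply Lead.mem_pResidual_of_pow_eq_one _ (Nat.card G / p ^ (Nat.card G).factorization p)
  · exact (Nat.coprime_ordCompl hp Nat.card_pos.ne').symm
  · rw [← pow_mul, Nat.ordProj_mul_ordCompl_eq_self]
    exact pow_card_eq_one'

theorem subnormal_of_pGen_le [Finite H] {p : ℕ} [Fact p.Prime] (K X : Subgroup H) (hXK : X ≤ K)
    (hRX : pGen p K ≤ X) : (X.subgroupOf K).IsSubnormal := by
  haveI := Lead.pResidual_normal p ↥K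
  have hQ : IsPGroup p (↥K ⧸ Cfsg.pResidual p ↥K) := quotient_pResidual_isPGroup p ↥K
  haveI : Group.IsNilpotent (↥K ⧸ Cfsg.pResidual p ↥K) := hQ.isNilpotent
  have h1 := Helper6.isSubnormal_of_isNilpotent _ ((X.subgroupOf K).map (QuotientGroup.mk' (Cfsg.pResidual p ↥K))) rfl
  have h2 := h1.comap (QuotientGroup.mk' (Cfsg.pResidual p ↥K))
  rw [Subgroup.comap_map_eq, QuotientGroup.ker_mk'] at h2
  have h3 : Cfsg.pResidual p ↥K ≤ X.subgroupOf K := by
    apply (Subgroup.closure_le _).mpr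
    intro g hg
    show (g : H) ∈ X
    apply hRX
    apply mem_pGen g.2
    have h4 : Nat.Coprime (orderOf g) p := hg
    rw [← Subgroup.orderOf_coe] at h4
    exact h4
  rw [sup_eq_left.mpr h3] at h2
  exact h2

end Cfsg.Agent.Lib.Helper4
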